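import Groth.Agent.Desc19b.SiteRes.Big
import Groth.Agent.Et18.ExtZero
import Mathlib.CategoryTheory.Limits.IsConnected

/-!
# Extension by zero on big sites is exact
-/

set_option autoImplicit false
set_option backward.isDefEq.respectTransparency false
set_option backward.isDefEq.respectTransparency.types false
set_option backward.defeqAttrib.useBackward true
set_option synthInstance.maxHeartbeats 400000
set_option linter.style.haveILetI false
set_option linter.unusedSectionVars false

universe w v v₁ v₂ u₁ u₂ u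

open CategoryTheory CategoryTheory.Limits AlgebraicGeometry Opposite

namespace Groth.Agent.Desc19b.SiteRes

section Lan

variable {C : Type u₁} [Category.{v₁} C] {D : Type u₂} [Category.{v₂} D]
  (E : Type w) [Category.{v} E] [HasFiniteLimits E] [HasColimitsOfSize.{v₁, max u₁ v₂} E]

theorem lan_preservesFiniteLimits_of_exact (F : C ⥤ D) [∀ (G : Cᵒᵖ ⥤ E), F.op.HasPointwiseLeftKanExtension G]
    [∀ K, HasExactColimitsOfShape (CostructuredArrow F.op K) E] :
    PreservesFiniteLimits (F.op.lan : (Cᵒᵖ ⥤ E) ⥤ Dᵒᵖ ⥤ E) := by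
  refine ⟨fun J _ _ => preservesLimitsOfShape_of_evaluation _ J fun K => ?_⟩
  let iso : F.op.lan ⋙ (evaluation Dᵒᵖ E).obj K ≅
      (Functor.whiskeringLeft _ _ E).obj (CostructuredArrow.proj F.op K) ⋙ colim :=
    NatIso.ofComponents (fun G => IsColimit.coconePointUniqueUpToIso
      (Functor.isPointwiseLeftKanExtensionLeftKanExtensionUnit F.op G K) (colimit.isColimit _)) (fun {G₁ G₂} φ => by
      apply (Functor.isPointwiseLeftKanExtensionLeftKanExtensionUnit F.op G₁ K).hom_ext
      intro T
      have h₁ := fun (G : Cᵒᵖ ⥤ E) => IsColimit.comp_coconePointUniqueUpToIso_hom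
        (Functor.isPointwiseLeftKanExtensionLeftKanExtensionUnit F.op G K) (colimit.isColimit _) T
      have h₂ := congr_app (F.op.lanUnit.naturality φ) T.left
      dsimp at h₁ h₂ ⊢
      simp only [Category.assoc] at h₁ ⊢
      simp only [Functor.lan, Functor.lanUnit] at h₂ ⊢
      rw [reassoc_of% h₁, NatTrans.naturality_assoc, ← reassoc_of% h₂, h₁, ι_colimMap, Functor.whiskerLeft_app]
      rfl)
  exact preservesLimitsOfShape_of_natIso iso.symm

end Lan

variable {X Y : Scheme.{u}} (f : X ⟶ Y) (V : Over Y)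

/-- Factorisations of `V ⟶ Y` through `X`. -/
abbrev Fac : Type u := {h : V.left ⟶ X // h ≫ f = V.hom}

/-- The initial factorisation objects. -/
noncomputable def facFunctor : Discrete (Fac f V) ⥤ CostructuredArrow (Over.map f).op (op V) :=
  Discrete.functor fun h => CostructuredArrow.mk
    ((Over.homMk (𝟙 V.left) (by simp [h.2]) : V ⟶ (Over.map f).obj (Over.mk h.1)).op :
      (Over.map f).op.obj (op (Over.mk h.1)) ⟶ op V)

theorem facFunctor_final : (facFunctor f V).Final := ⟨fun e => by
  let W : Over X := e.left.unop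
  let m : V ⟶ (Over.map f).obj W := e.hom.unop
  let h₀ : Fac f V := ⟨m.left ≫ W.hom, (Category.assoc _ _ _).trans (Over.w m)⟩
  let a : Over.mk h₀.1 ⟶ W := Over.homMk m.left rfl
  let φ : e ⟶ (facFunctor f V).obj ⟨h₀⟩ := CostructuredArrow.homMk a.op (by
    apply Quiver.Hom.unop_inj
    apply Over.OverMorphism.ext
    show 𝟙 _ ≫ m.left = m.left
    rw [Category.id_comp])
  have hk : ∀ (i : Discrete (Fac f V)) (ψ : e ⟶ (facFunctor f V).obj i),
      (ψ.left.unop : Over.mk i.as.1 ⟶ W).left = m.left := fun i ψ =>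
    (Category.id_comp _).symm.trans (congrArg (fun t => t.unop.left) (CostructuredArrow.w ψ))
  have huniq : ∀ (i : Discrete (Fac f V)) (ψ ψ' : e ⟶ (facFunctor f V).obj i), ψ = ψ' := fun i ψ ψ' =>
    CostructuredArrow.hom_ext _ _ (Quiver.Hom.unop_inj (Over.OverMorphism.ext ((hk i ψ).trans (hk i ψ').symm)))
  have hobj : ∀ (i : Discrete (Fac f V)) (ψ : e ⟶ (facFunctor f V).obj i), i = ⟨h₀⟩ := fun i ψ => by
    refine Discrete.ext (Subtype.ext ?_)
    show i.as.1 = m.left ≫ W.hom
    rw [← hk i ψ]
    exact (Over.w (ψ.left.unop : Over.mk i.as.1 ⟶ W)).symm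
  refine isConnected_of_isTerminal _ (x := StructuredArrow.mk φ) (IsTerminal.ofUniqueHom
    (fun s => StructuredArrow.homMk (eqToHom (hobj s.right s.hom)) (huniq _ _ _))
    fun s g => StructuredArrow.hom_ext _ _ (Subsingleton.elim _ _))⟩

instance hasExactColimitsOfShape_fac (K : (Over Y)ᵒᵖ) :
    HasExactColimitsOfShape (CostructuredArrow (Over.map f).op K) AddCommGrpCat.{u + 1} := by
  obtain ⟨V⟩ := K
  haveI := facFunctor_final f V
  exact hasExactColimitsOfShape_of_final AddCommGrpCat.{u + 1} (facFunctor f V)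

theorem preservesFiniteLimits_shriekAb (K : Precoverage Scheme.{u}) :
    PreservesFiniteLimits (BigSite.shriekAb K f) := by
  haveI := lan_preservesFiniteLimits_of_exact AddCommGrpCat.{u + 1} (Over.map f)
  exact Functor.sheafPullbackConstruction.preservesFiniteLimits (Over.map f) AddCommGrpCat.{u + 1}
    (QuotSh.J K X) (QuotSh.J K Y)

end Groth.Agent.Desc19b.SiteRes
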