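import Groth.Agent.Desc19b.SiteRes.Shriek
import Groth.Agent.SiteCoh.Derived

/-!
# Big and small sites: restriction, direct image, base change
-/

set_option autoImplicit false
set_option backward.isDefEq.respectTransparency false
set_option backward.isDefEq.respectTransparency.types false
set_option synthInstance.maxHeartbeats 400000
set_option linter.style.haveILetI false
set_option linter.unusedSectionVars false

universe v' u' u

open CategoryTheory CategoryTheory.Limits AlgebraicGeometry Opposite

namespace Groth.Agent.Desc19b.SiteRes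

variable {S T S' T' : Scheme.{u}}

/-- Étale base change is base change. -/
noncomputable def aPullbackIso (f : T ⟶ S) : EtFppf.a S ⋙ Over.pullback f ≅ EtCoh.bc f ⋙ EtFppf.a T :=
  NatIso.ofComponents (fun U => Over.isoMk (Iso.refl _) (Category.id_comp _)) fun {U U'} g => by
    apply Over.OverMorphism.ext
    apply pullback.hom_ext
    · simp [EtCoh.bc]
      exact pullback.lift_fst _ _ _
    · simp [EtCoh.bc]
      exact pullback.lift_snd _ _ _

/-- Base change of base change. -/
noncomputable def mapPullbackIso {f : T ⟶ S} {g : S' ⟶ S} {g' : T' ⟶ T} {f' : T' ⟶ S'}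
    (c : IsPullback g' f' f g) : Over.map g ⋙ Over.pullback f ≅ Over.pullback f' ⋙ Over.map g' :=
  NatIso.ofComponents (fun U => Over.isoMk
    ((IsPullback.of_hasPullback U.hom f').paste_vert c.flip).isoPullback.symm (by
      show _ ≫ pullback.snd U.hom f' ≫ g' = pullback.snd (U.hom ≫ g) f
      rw [Iso.symm_hom, IsPullback.isoPullback_inv_snd])) fun {U U'} k => by
    apply Over.OverMorphism.ext
    refine (((IsPullback.of_hasPullback U'.hom f').paste_vert c.flip).hom_ext ?_ ?_)
    · simp
    · simp

variable (K : Precoverage Scheme.{u})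

/-- The big direct image commutes with big base change. -/
noncomputable def pushPullBigIso {f : T ⟶ S} {g : S' ⟶ S} {g' : T' ⟶ T} {f' : T' ⟶ S'}
    (c : IsPullback g' f' f g) (A : Type u') [Category.{v'} A] :
    BigSite.pushBig K f A ⋙ BigSite.pullBig K g A ≅ BigSite.pullBig K g' A ⋙ BigSite.pushBig K f' A :=
  haveI : (Over.map g ⋙ Over.pullback f).IsContinuous (QuotSh.J K S') (QuotSh.J K T) :=
    Functor.isContinuous_comp (Over.map g) (Over.pullback f) _ (QuotSh.J K S) _
  haveI : (Over.pullback f' ⋙ Over.map g').IsContinuous (QuotSh.J K S') (QuotSh.J K T) :=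
    Functor.isContinuous_comp (Over.pullback f') (Over.map g') _ (QuotSh.J K T') _
  Functor.sheafPushforwardContinuousComp' (Iso.refl (Over.map g ⋙ Over.pullback f)) A
      (QuotSh.J K S') (QuotSh.J K S) (QuotSh.J K T) ≪≫
    (Functor.sheafPushforwardContinuousComp' (mapPullbackIso c).symm A
      (QuotSh.J K S') (QuotSh.J K T') (QuotSh.J K T)).symm

/-- Restriction to small sites commutes with direct image. -/
noncomputable def pushResIso (f : T ⟶ S) :
    BigSite.pushBig Scheme.etalePrecoverage f AddCommGrpCat.{u + 1} ⋙ BigSite.resEt Scheme.etalePrecoverage S ≅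
      BigSite.resEt Scheme.etalePrecoverage T ⋙ EtCoh.push f :=
  haveI : (EtFppf.a S ⋙ Over.pullback f).IsContinuous S.smallEtaleTopology
      (QuotSh.J Scheme.etalePrecoverage T) :=
    Functor.isContinuous_comp (EtFppf.a S) (Over.pullback f) _ (QuotSh.J Scheme.etalePrecoverage S) _
  haveI : (EtCoh.bc f ⋙ EtFppf.a T).IsContinuous S.smallEtaleTopology
      (QuotSh.J Scheme.etalePrecoverage T) :=
    Functor.isContinuous_comp (EtCoh.bc f) (EtFppf.a T) _ T.smallEtaleTopology _
  Functor.sheafPushforwardContinuousComp' (Iso.refl (EtFppf.a S ⋙ Over.pullback f)) AddCommGrpCat.{u + 1}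
      S.smallEtaleTopology (QuotSh.J Scheme.etalePrecoverage S) (QuotSh.J Scheme.etalePrecoverage T) ≪≫
    (Functor.sheafPushforwardContinuousComp' (aPullbackIso f).symm AddCommGrpCat.{u + 1}
      S.smallEtaleTopology T.smallEtaleTopology (QuotSh.J Scheme.etalePrecoverage T)).symm

/-- Restriction along a square commutes with direct image. -/
noncomputable def pushResAlongIso {f : T ⟶ S} {g : S' ⟶ S} {g' : T' ⟶ T} {f' : T' ⟶ S'}
    (c : IsPullback g' f' f g) :
    BigSite.pushBig Scheme.etalePrecoverage f AddCommGrpCat.{u + 1} ⋙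
        BigSite.resEtAlong Scheme.etalePrecoverage g ≅
      BigSite.resEtAlong Scheme.etalePrecoverage g' ⋙ EtCoh.push f' :=
  (Functor.associator _ _ _).symm ≪≫
    Functor.isoWhiskerRight (pushPullBigIso Scheme.etalePrecoverage c AddCommGrpCat.{u + 1}) _ ≪≫
    Functor.associator _ _ _ ≪≫ Functor.isoWhiskerLeft _ (pushResIso f') ≪≫ (Functor.associator _ _ _).symm

/- Exactness -/

instance preservesFiniteColimits_pullBig (f : T ⟶ S) :
    PreservesFiniteColimits (BigSite.pullBig K f AddCommGrpCat.{u + 1}) :=
  haveI : PreservesColimitsOfSize.{0, 0} (BigSite.pullBig K f AddCommGrpCat.{u + 1}) :=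
    (BigSite.bigAdj K f AddCommGrpCat.{u + 1}).leftAdjoint_preservesColimits
  PreservesColimitsOfSize.preservesFiniteColimits _

instance preservesFiniteLimits_pullBig (f : T ⟶ S) :
    PreservesFiniteLimits (BigSite.pullBig K f AddCommGrpCat.{u + 1}) :=
  haveI : PreservesLimitsOfSize.{0, 0} (BigSite.pullBig K f AddCommGrpCat.{u + 1}) :=
    (BigSite.shriekAbAdj K f).rightAdjoint_preservesLimits
  PreservesLimitsOfSize.preservesFiniteLimits _

instance preservesInjectiveObjects_pullBig (f : T ⟶ S) :
    (BigSite.pullBig K f AddCommGrpCat.{u + 1}).PreservesInjectiveObjects := ⟨fun {I} hI => by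
  haveI := preservesFiniteLimits_shriekAb f K
  exact Injective.injective_of_adjoint (BigSite.shriekAbAdj K f) I⟩

variable (S)

instance preservesFiniteColimits_resEt :
    PreservesFiniteColimits (BigSite.resEt Scheme.etalePrecoverage S) :=
  haveI : PreservesColimitsOfSize.{0, 0} (BigSite.resEt Scheme.etalePrecoverage S) :=
    (BigSite.iEtAdj Scheme.etalePrecoverage S).leftAdjoint_preservesColimits
  PreservesColimitsOfSize.preservesFiniteColimits _

instance preservesFiniteLimits_resEt :
    PreservesFiniteLimits (BigSite.resEt Scheme.etalePrecoverage S) :=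
  haveI : PreservesLimitsOfSize.{0, 0} (BigSite.resEt Scheme.etalePrecoverage S) :=
    (BigSite.piEtAdj Scheme.etalePrecoverage S).rightAdjoint_preservesLimits
  PreservesLimitsOfSize.preservesFiniteLimits _

instance preservesInjectiveObjects_resEt :
    (BigSite.resEt Scheme.etalePrecoverage S).PreservesInjectiveObjects := ⟨fun {I} hI =>
  Injective.injective_of_adjoint (BigSite.piEtAdj Scheme.etalePrecoverage S) I⟩

variable {S}

instance preservesInjectiveObjects_resEtAlong (f : T ⟶ S) :
    (BigSite.resEtAlong Scheme.etalePrecoverage f).PreservesInjectiveObjects := ⟨fun {I} hI =>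
  haveI := (preservesInjectiveObjects_pullBig Scheme.etalePrecoverage f).injective_obj hI
  (preservesInjectiveObjects_resEt T).injective_obj inferInstance⟩

theorem nonempty_resEtAlong_rpushBig {f : T ⟶ S} {g : S' ⟶ S} {g' : T' ⟶ T} {f' : T' ⟶ S'}
    (c : IsPullback g' f' f g) (F : BigSite.Ab Scheme.etalePrecoverage T) (q : ℕ) :
    Nonempty ((BigSite.resEtAlong Scheme.etalePrecoverage g).obj
        ((BigSite.RpushBig Scheme.etalePrecoverage f q).obj F) ≅
      (EtCoh.Rpush f' q).obj ((BigSite.resEtAlong Scheme.etalePrecoverage g').obj F)) :=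
  ⟨((SiteCoh.rightDerivedCompExactIso (BigSite.pushBig Scheme.etalePrecoverage f AddCommGrpCat.{u + 1})
      (BigSite.resEtAlong Scheme.etalePrecoverage g) q).symm ≪≫
    SiteCoh.rightDerivedCongr (pushResAlongIso c) q ≪≫
    SiteCoh.rightDerivedExactCompIso (BigSite.resEtAlong Scheme.etalePrecoverage g') (EtCoh.push f') q).app F⟩

theorem nonempty_pullBig_rpushBig {f : T ⟶ S} {g : S' ⟶ S} {g' : T' ⟶ T} {f' : T' ⟶ S'}
    (c : IsPullback g' f' f g) (F : BigSite.Ab K T) (q : ℕ) :
    Nonempty ((BigSite.pullBig K g AddCommGrpCat.{u + 1}).obj ((BigSite.RpushBig K f q).obj F) ≅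
      (BigSite.RpushBig K f' q).obj ((BigSite.pullBig K g' AddCommGrpCat.{u + 1}).obj F)) :=
  ⟨((SiteCoh.rightDerivedCompExactIso (BigSite.pushBig K f AddCommGrpCat.{u + 1})
      (BigSite.pullBig K g AddCommGrpCat.{u + 1}) q).symm ≪≫
    SiteCoh.rightDerivedCongr (pushPullBigIso K c AddCommGrpCat.{u + 1}) q ≪≫
    SiteCoh.rightDerivedExactCompIso (BigSite.pullBig K g' AddCommGrpCat.{u + 1})
      (BigSite.pushBig K f' AddCommGrpCat.{u + 1}) q).app F⟩

end Groth.Agent.Desc19b.SiteRes
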