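import Groth.Agent.Desc19b.SiteRes.Basic
import Groth.Prelude.Def_BigSite
import Groth.Prelude.Def_EtCore

/-!
# Small and big sites have the same cohomology
-/

set_option autoImplicit false
set_option backward.isDefEq.respectTransparency false
set_option backward.isDefEq.respectTransparency.types false
set_option synthInstance.maxHeartbeats 400000
set_option linter.style.haveILetI false
set_option linter.unusedSectionVars false

universe u

open CategoryTheory CategoryTheory.Limits CategoryTheory.Abelian AlgebraicGeometry Opposite TopologicalSpace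

namespace Groth.Agent.Desc19b.SiteRes

variable (K : Precoverage Scheme.{u}) (X : Scheme.{u})

instance : (QuotSh.J K X).WEqualsLocallyBijective AddCommGrpCat.{u + 1} := by
  haveI : EssentiallySmall.{u + 1} (Over X) := inferInstance
  haveI : ((equivSmallModel.{u + 1} (Over X)).inverse.inducedTopology
      (QuotSh.J K X)).WEqualsLocallyBijective AddCommGrpCat.{u + 1} := inferInstance
  exact GrothendieckTopology.WEqualsLocallyBijective.ofEssentiallySmall.{u, u + 1, u + 1, u + 2, u + 1, u + 1, u + 1} (QuotSh.J K X)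

instance : (Opens.grothendieckTopology X).WEqualsLocallyBijective AddCommGrpCat.{u + 1} :=
  GrothendieckTopology.WEqualsLocallyBijective.ofEssentiallySmall (Opens.grothendieckTopology X)

instance : RepresentablyFlat (EtFppf.a X) :=
  haveI : PreservesFiniteLimits (MorphismProperty.Over.forget @AlgebraicGeometry.Etale ⊤ X) := inferInstance
  flat_of_preservesFiniteLimits (MorphismProperty.Over.forget @AlgebraicGeometry.Etale ⊤ X)

instance preservesFiniteLimits_piEtPull [BigSite.AEtCont K X] : PreservesFiniteLimits (BigSite.piEtPull K X) := by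
  haveI : AB5OfSize.{u, u + 1} AddCommGrpCat.{u + 1} := AB5OfSize_of_univLE AddCommGrpCat.{u + 1}
  haveI := EtZarCmp.lan_preservesFiniteLimits AddCommGrpCat.{u + 1} (EtFppf.a X)
  exact Functor.sheafPullbackConstruction.preservesFiniteLimits (EtFppf.a X) AddCommGrpCat.{u + 1}
    X.smallEtaleTopology (QuotSh.J K X)

/-- Cohomology of the big and small étale sites. -/
theorem nonempty_H_resEt (F : BigSite.Ab Scheme.etalePrecoverage X) (p : ℕ) :
    Nonempty (EtCoh.H X ((BigSite.resEt Scheme.etalePrecoverage X).obj F) p ≃+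
      BigSite.H Scheme.etalePrecoverage X F p) := by
  haveI : (EtFppf.a X).IsCocontinuous X.smallEtaleTopology (QuotSh.J Scheme.etalePrecoverage X) :=
    BigSite.aEtCocont_etale X
  exact nonempty_H_res (J := X.smallEtaleTopology) (K := QuotSh.J Scheme.etalePrecoverage X) (EtFppf.a X)
    (EtCore.topIsTerminal X) Over.mkIdTerminal F p

theorem isCocontinuous_zarIncl :
    (BigSite.zarIncl X).IsCocontinuous (Opens.grothendieckTopology X)
      (QuotSh.J Scheme.zariskiPrecoverage X) := ⟨fun {U S} hS => by
  obtain ⟨𝒰, h𝒰⟩ := Scheme.mem_grothendieckTopology_iff.1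
    (show Sieve.overEquiv ((BigSite.zarIncl X).obj U) S ∈ Scheme.grothendieckTopology IsOpenImmersion _ from hS)
  intro (x : X) (hx : x ∈ U)
  obtain ⟨i, y, hy⟩ := 𝒰.exists_eq (⟨x, hx⟩ : Scheme.Opens.toScheme (X := X) U)
  haveI : IsOpenImmersion (𝒰.f i) := 𝒰.map_prop i
  let f : 𝒰.X i ⟶ X := 𝒰.f i ≫ Scheme.Opens.ι (X := X) U
  haveI : IsOpenImmersion f := inferInstanceAs (IsOpenImmersion (_ ≫ _))
  have hle : f.opensRange ≤ U := by
    rintro _ ⟨z, rfl⟩
    exact (𝒰.f i z).2
  refine ⟨f.opensRange, homOfLE hle, ?_, ⟨y, congrArg Subtype.val hy⟩⟩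
  show S.arrows ((BigSite.zarIncl X).map (homOfLE hle))
  have e : ((BigSite.zarIncl X).map (homOfLE hle)).left = f.isoOpensRange.inv ≫ 𝒰.f i := by
    rw [← cancel_mono (Scheme.Opens.ι (X := X) U)]
    show X.homOfLE hle ≫ Scheme.Opens.ι (X := X) U = _
    rw [Scheme.homOfLE_ι, Category.assoc]
    exact f.isoOpensRange_inv_comp.symm
  rw [← (Sieve.overEquiv ((BigSite.zarIncl X).obj U)).symm_apply_apply S]
  show (Sieve.overEquiv ((BigSite.zarIncl X).obj U) S).arrows ((BigSite.zarIncl X).map (homOfLE hle)).left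
  rw [e]
  exact (Sieve.overEquiv ((BigSite.zarIncl X).obj U) S).downward_closed (h𝒰 _ _ (Presieve.ofArrows.mk i)) _⟩

instance [BigSite.ZarCont Scheme.zariskiPrecoverage X] :
    PreservesFiniteLimits (BigSite.piZarPull Scheme.zariskiPrecoverage X) := by
  haveI : AB5OfSize.{u, u} AddCommGrpCat.{u + 1} := AB5OfSize_of_univLE AddCommGrpCat.{u + 1}
  haveI : RepresentablyFlat (BigSite.zarIncl X) := RepresentablyFlat.comp (EtZar.zarToEt X) (EtFppf.a X)
  haveI := EtZarCmp.lan_preservesFiniteLimits AddCommGrpCat.{u + 1} (BigSite.zarIncl X)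
  exact Functor.sheafPullbackConstruction.preservesFiniteLimits (BigSite.zarIncl X) AddCommGrpCat.{u + 1}
    (Opens.grothendieckTopology X) (QuotSh.J Scheme.zariskiPrecoverage X)

/-- Cohomology of the big and small Zariski sites. -/
theorem nonempty_H_resZar [BigSite.ZarCont Scheme.zariskiPrecoverage X]
    (F : BigSite.Ab Scheme.zariskiPrecoverage X) (p : ℕ) :
    Nonempty (EtZar.H ((BigSite.resZar Scheme.zariskiPrecoverage X).obj F) p ≃+
      BigSite.H Scheme.zariskiPrecoverage X F p) := by
  haveI := isCocontinuous_zarIncl X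
  haveI : PreservesFiniteLimits (MorphismProperty.Over.forget @AlgebraicGeometry.Etale ⊤ X) := inferInstance
  have hT : IsTerminal ((BigSite.zarIncl X).obj ⊤) :=
    IsTerminal.isTerminalObj (MorphismProperty.Over.forget @AlgebraicGeometry.Etale ⊤ X) _
      (EtZarCmp.isTerminalTop X)
  exact nonempty_H_res (J := Opens.grothendieckTopology X) (K := QuotSh.J Scheme.zariskiPrecoverage X)
    (BigSite.zarIncl X) (isTerminalTop : IsTerminal (⊤ : X.Opens)) hT F p

end Groth.Agent.Desc19b.SiteRes
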