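import Groth.Agent.Desc19b.SiteRes.Big
import Mathlib.CategoryTheory.Adjunction.Triple

/-!
# Inverse image from the small étale site to the big one is fully faithful
-/

set_option autoImplicit false
set_option backward.isDefEq.respectTransparency false
set_option backward.isDefEq.respectTransparency.types false
set_option synthInstance.maxHeartbeats 400000
set_option linter.style.haveILetI false
set_option linter.unusedSectionVars false

universe v₁ v₂ v₃ u₁ u₂ u₃ u

open CategoryTheory CategoryTheory.Limits AlgebraicGeometry Opposite

namespace Groth.Agent.Desc19b.SiteRes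

theorem isIso_unit_pull {C : Type u₁} [Category.{v₁} C] {D : Type u₂} [Category.{v₂} D]
    (J : GrothendieckTopology C) (K : GrothendieckTopology D) (G : C ⥤ D) [G.IsContinuous J K]
    [G.IsCocontinuous J K] [G.Full] [G.Faithful] (A : Type u₃) [Category.{v₃} A]
    [(G.sheafPushforwardContinuous A J K).IsRightAdjoint]
    [∀ (F : Cᵒᵖ ⥤ A), G.op.HasPointwiseRightKanExtension F] :
    IsIso (G.sheafAdjunctionContinuous A J K).unit := by
  let t : Adjunction.Triple (G.sheafPullback A J K) (G.sheafPushforwardContinuous A J K)
      (G.sheafPushforwardCocontinuous A J K) :=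
    ⟨G.sheafAdjunctionContinuous A J K, G.sheafAdjunctionCocontinuous A J K⟩
  refine t.isIso_unit_iff_isIso_counit.2 ?_
  haveI : ∀ F, IsIso ((G.sheafAdjunctionCocontinuous A J K).counit.app F) := fun F => by
    haveI : IsIso ((sheafToPresheaf J A).map ((G.sheafAdjunctionCocontinuous A J K).counit.app F)) := by
      show IsIso ((G.sheafAdjunctionCocontinuous A J K).counit.app F).hom
      rw [Functor.sheafAdjunctionCocontinuous_counit_app_hom]
      infer_instance
    exact isIso_of_fully_faithful (sheafToPresheaf J A) _
  exact NatIso.isIso_of_isIso_app _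

variable (X : Scheme.{u})

theorem isIso_unit_etBig :
    (∀ G, IsIso (((EtFppf.a X).sheafAdjunctionContinuous (Type (u + 1)) X.smallEtaleTopology
      (QuotSh.J Scheme.etalePrecoverage X)).unit.app G)) ∧
    (∀ G : EtCoh.Ab X, IsIso ((BigSite.piEtAdj Scheme.etalePrecoverage X).unit.app G)) := by
  haveI : (EtFppf.a X).IsCocontinuous X.smallEtaleTopology (QuotSh.J Scheme.etalePrecoverage X) :=
    BigSite.aEtCocont_etale X
  haveI : (EtFppf.a X).Full := inferInstanceAs (Scheme.Etale.forget X).Full
  haveI : (EtFppf.a X).Faithful := inferInstanceAs (Scheme.Etale.forget X).Faithful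
  haveI := isIso_unit_pull X.smallEtaleTopology (QuotSh.J Scheme.etalePrecoverage X) (EtFppf.a X) (Type (u + 1))
  haveI := isIso_unit_pull X.smallEtaleTopology (QuotSh.J Scheme.etalePrecoverage X) (EtFppf.a X)
    AddCommGrpCat.{u + 1}
  exact ⟨fun G => inferInstance, fun G => inferInstance⟩

end Groth.Agent.Desc19b.SiteRes
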