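import Groth.Agent.Et18.IntegralCover
import Groth.Agent.FlatMorSmoothSect.Scheme
import Groth.Prelude.Def_BigSite

/-!
# Base change along closed immersions is almost cocontinuous on the big étale and smooth sites
-/

set_option autoImplicit false
set_option backward.isDefEq.respectTransparency.types false
set_option backward.isDefEq.respectTransparency false
set_option linter.style.haveILetI false
set_option linter.all false

universe u

open CategoryTheory CategoryTheory.Limits AlgebraicGeometry Opposite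

namespace Groth.Agent.Desc19b.SiteRes

/-- Covering sieves of schemes over `X` from families of morphisms. -/
theorem mem_J_precoverage {X : Scheme.{u}} (P : MorphismProperty Scheme.{u}) {U : Over X} (S : Sieve U)
    (h : ∀ x : U.left, ∃ (V : Over X) (g : V ⟶ U), S g ∧ P g.left ∧ x ∈ Set.range g.left) :
    S ∈ QuotSh.J (Scheme.precoverage P) X U := by
  rw [GrothendieckTopology.mem_over_iff]
  choose V g hS hP hx using h
  refine ((Scheme.precoverage P).toGrothendieck).superset_covering ?_ (Precoverage.generate_mem_toGrothendieck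
    ((Scheme.ofArrows_mem_precoverage_iff P (f := fun x => (g x).left)).2 ⟨fun x => ⟨x, hx x⟩, hP⟩))
  rw [Sieve.generate_le_iff]
  rintro Z e ⟨x⟩
  refine (Sieve.overEquiv_iff _ (g x).left).2 ?_
  have he : (Over.homMk (g x).left : Over.mk ((g x).left ≫ U.hom) ⟶ U) =
      (Over.homMk (𝟙 (V x).left) ((Category.id_comp _).trans (Over.w (g x)).symm) :
        Over.mk ((g x).left ≫ U.hom) ⟶ V x) ≫ g x :=
    Over.OverMorphism.ext (Category.id_comp _).symm
  rw [he]
  exact S.downward_closed (hS x) _

theorem bot_mem_J_of_isEmpty {X : Scheme.{u}} (P : MorphismProperty Scheme.{u}) (U : Over X) [IsEmpty U.left] :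
    (⊥ : Sieve U) ∈ QuotSh.J (Scheme.precoverage P) X U :=
  mem_J_precoverage P ⊥ fun x => (IsEmpty.false x).elim

theorem exists_etale_in_sieve {X : Scheme.{u}} (K : Precoverage Scheme.{u})
    (hK : K = Scheme.etalePrecoverage ∨ K = Scheme.precoverage @Smooth) {U : Over X} (S : Sieve U)
    (hS : S ∈ QuotSh.J K X U) (x : U.left) :
    ∃ (V : Over X) (g : V ⟶ U), S g ∧ Etale g.left ∧ x ∈ Set.range g.left := by
  rw [GrothendieckTopology.mem_over_iff] at hS
  rcases hK with rfl | rfl
  · rw [show (Scheme.etalePrecoverage.{u}) = Scheme.precoverage @Etale from rfl,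
      Precoverage.mem_toGrothendieck_iff_of_isStableUnderComposition] at hS
    obtain ⟨R, hR, hle⟩ := hS
    obtain ⟨ι, Z, g, rfl⟩ := Presieve.exists_eq_ofArrows R
    obtain ⟨hsurj, hP⟩ := (Scheme.ofArrows_mem_precoverage_iff @Etale).1 hR
    obtain ⟨i, z, hz⟩ := hsurj x
    exact ⟨Over.mk (g i ≫ U.hom), Over.homMk (g i),
      (Sieve.overEquiv_iff S (g i)).1 (hle _ _ (Presieve.ofArrows.mk i)), hP i, ⟨z, hz⟩⟩
  · haveI : MorphismProperty.ContainsIdentities @Smooth.{u} := ⟨fun Z => inferInstanceAs (Smooth (𝟙 Z))⟩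
    rw [Precoverage.mem_toGrothendieck_iff_of_isStableUnderComposition] at hS
    obtain ⟨R, hR, hle⟩ := hS
    obtain ⟨ι, Z, g, rfl⟩ := Presieve.exists_eq_ofArrows R
    obtain ⟨hsurj, hP⟩ := (Scheme.ofArrows_mem_precoverage_iff @Smooth).1 hR
    obtain ⟨i, z, hz⟩ := hsurj x
    haveI := hP i
    obtain ⟨S', e, s', he, hes, h, hh⟩ := FlatMorSmoothSect.exists_section_etale_locally (g i) z
    let V : Over X := Over.mk (e ≫ U.hom)
    let q : V ⟶ U := Over.homMk e
    have hq : q = (Over.homMk h (by
        change h ≫ g i ≫ U.hom = e ≫ U.hom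
        rw [← Category.assoc, hh]) : V ⟶ Over.mk (g i ≫ U.hom)) ≫ Over.homMk (g i) :=
      Over.OverMorphism.ext hh.symm
    refine ⟨V, q, ?_, he, ⟨s', hes.trans hz⟩⟩
    rw [hq]
    exact S.downward_closed ((Sieve.overEquiv_iff S (g i)).1 (hle _ _ (Presieve.ofArrows.mk i))) _

theorem isAlmostCocontinuous_aux {X Y : Scheme.{u}} (f : X ⟶ Y) [IsClosedImmersion f] (K : Precoverage Scheme.{u})
    (hK : K = Scheme.etalePrecoverage ∨ K = Scheme.precoverage @Smooth) :
    BigSite.IsAlmostCocontinuous (Over.pullback f) (QuotSh.J K Y) (QuotSh.J K X) := by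
  intro U R hR
  choose V g hg hge hgx using exists_etale_in_sieve K hK R hR
  let φ : ((Over.pullback f).obj U).left ⟶ U.left := pullback.fst U.hom f
  haveI : IsClosedImmersion φ := inferInstanceAs (IsClosedImmersion (pullback.fst U.hom f))
  haveI : ∀ t, Etale (g t).left := hge
  let R' : Sieve U :=
    { arrows := fun V' a => (⊥ : Sieve ((Over.pullback f).obj V')) ∈ QuotSh.J K X _ ∨ R ((Over.pullback f).map a)
      downward_closed := by
        rintro V' V'' a (h | h) b
        · refine .inl ?_
          have := (QuotSh.J K X).pullback_stable ((Over.pullback f).map b) h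
          rwa [Sieve.pullback_bot] at this
        · exact .inr (by rw [Functor.map_comp]; exact R.downward_closed h _) }
  refine ⟨R', ?_, fun V' a h => h⟩
  have key : ∀ v : U.left, ∃ (V' : Over Y) (a : V' ⟶ U), R' a ∧ Etale a.left ∧ v ∈ Set.range a.left := by
    intro v
    obtain ⟨S', p, hp, ⟨v', hv'⟩, hsplit⟩ := Et18.exists_cover_lift φ (fun t => (V t).left) (fun t => (g t).left)
      (fun t => ⟨t, hgx t⟩) v
    let U' : Over Y := Over.mk (p ≫ U.hom)
    let a : U' ⟶ U := Over.homMk p
    let r := ((Over.pullback f).map a).left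
    let l : ((Over.pullback f).obj U').left ⟶ S' := pullback.fst U'.hom f
    have sq : IsPullback r l φ p := by
      have hr₁ : r ≫ pullback.fst U.hom f = l ≫ p := pullback.lift_fst _ _ _
      have hr₂ : r ≫ pullback.snd U.hom f = pullback.snd U'.hom f := pullback.lift_snd _ _ _
      refine IsPullback.of_right ?_ hr₁ (IsPullback.of_hasPullback U.hom f).flip
      rw [hr₂]
      exact (IsPullback.of_hasPullback U'.hom f).flip
    haveI : IsClosedImmersion l := inferInstanceAs (IsClosedImmersion (pullback.fst U'.hom f))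
    obtain ⟨μ, W, hdisj, hsup, hW⟩ := hsplit r l sq
    have mk : ∀ (N : S'.Opens), v' ∈ N →
        R' ((Over.homMk N.ι : Over.mk (N.ι ≫ U'.hom) ⟶ U') ≫ a) →
        ∃ (V' : Over Y) (a : V' ⟶ U), R' a ∧ Etale a.left ∧ v ∈ Set.range a.left := fun N hN h => by
      haveI := hp
      exact ⟨_, _, h, inferInstanceAs (Etale (N.ι ≫ p)), ⟨v', hN⟩, hv'⟩
    by_cases hv : v' ∈ Set.range l
    · obtain ⟨z, hz⟩ := hv
      obtain ⟨i, hi⟩ := TopologicalSpace.Opens.mem_iSup.1 (show z ∈ ⨆ a, W a from hsup ▸ trivial)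
      have hcl : IsClosed (l '' ((W i : Set _)ᶜ)) := l.isClosedEmbedding.isClosedMap _ (W i).isOpen.isClosed_compl
      let N : S'.Opens := ⟨(l '' ((W i : Set _)ᶜ))ᶜ, hcl.isOpen_compl⟩
      refine mk N ?_ (.inr ?_)
      · rintro ⟨z', hz', e⟩
        exact hz' (l.isClosedEmbedding.injective (e.trans hz.symm) ▸ hi)
      let b : Over.mk (N.ι ≫ U'.hom) ⟶ U' := Over.homMk N.ι
      let rb := ((Over.pullback f).map b).left
      have hrb : rb ≫ l = pullback.fst _ f ≫ N.ι := pullback.lift_fst _ _ _
      have hrange : Set.range rb ⊆ Set.range (W i).ι := by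
        rintro _ ⟨w, rfl⟩
        have hw : rb w ∈ W i := by
          by_contra hn
          have : l (rb w) = ((pullback.fst _ f) w).1 := congrArg (fun k => k w) hrb
          exact (((pullback.fst (Over.mk (N.ι ≫ U'.hom)).hom f) w).2) ⟨rb w, hn, this⟩
        exact ⟨⟨rb w, hw⟩, rfl⟩
      let c := IsOpenImmersion.lift (W i).ι rb hrange
      have hc : c ≫ (W i).ι = rb := IsOpenImmersion.lift_fac _ _ _
      obtain ⟨t, h, hh⟩ := hW i
      have e : ((Over.pullback f).map (b ≫ a)).left = (c ≫ h) ≫ (g t).left := by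
        rw [Category.assoc, hh, ← Category.assoc, hc, Functor.map_comp]
        rfl
      let m : (Over.pullback f).obj (Over.mk (N.ι ≫ U'.hom)) ⟶ V t := Over.homMk (c ≫ h) (by
        rw [← Over.w (g t), ← Category.assoc, ← e]
        exact Over.w _)
      rw [show (Over.pullback f).map (b ≫ a) = m ≫ g t from Over.OverMorphism.ext e]
      exact R.downward_closed (hg t) m
    · let N : S'.Opens := ⟨(Set.range l)ᶜ, l.isClosedEmbedding.isClosed_range.isOpen_compl⟩
      refine mk N hv (.inl ?_)
      haveI : IsEmpty ((Over.pullback f).obj (Over.mk (N.ι ≫ U'.hom))).left := ⟨fun w => by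
        let b : Over.mk (N.ι ≫ U'.hom) ⟶ U' := Over.homMk N.ι
        have hrb : ((Over.pullback f).map b).left ≫ l = pullback.fst _ f ≫ N.ι := pullback.lift_fst _ _ _
        exact ((pullback.fst (Over.mk (N.ι ≫ U'.hom)).hom f) w).2 ⟨_, congrArg (fun k => k w) hrb⟩⟩
      rcases hK with rfl | rfl
      · exact bot_mem_J_of_isEmpty @Etale _
      · exact bot_mem_J_of_isEmpty @Smooth _
  rcases hK with rfl | rfl
  · exact mem_J_precoverage @Etale R' key
  · refine mem_J_precoverage @Smooth R' fun v => ?_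
    obtain ⟨V', a, h1, h2, h3⟩ := key v
    exact ⟨V', a, h1, inferInstance, h3⟩

end Groth.Agent.Desc19b.SiteRes
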