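import Groth.Agent.Desc19b.SiteRes.AlmostCocont
import Groth.Agent.Desc19b.SiteRes.Big

/-!
# Direct images along almost cocontinuous functors
-/

set_option autoImplicit false
set_option backward.isDefEq.respectTransparency.types false
set_option backward.isDefEq.respectTransparency false
set_option linter.style.haveILetI false
set_option linter.all false

universe w v u v' u' u₁

open CategoryTheory CategoryTheory.Limits Opposite

namespace Groth.Agent.Desc19b.SiteRes.Almost

variable {C : Type u} [Category.{v} C] {D : Type u'} [Category.{v'} D] {J : GrothendieckTopology C}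
  {L : GrothendieckTopology D} (G : C ⥤ D)

theorem imageSieve_mem (hG : BigSite.IsAlmostCocontinuous G J L) {A : Type*} [Category A] {FA : A → A → Type*}
    {CA : A → Type w} [∀ X Y, FunLike (FA X Y) (CA X) (CA Y)] [ConcreteCategory.{w} A FA]
    {P Q : Dᵒᵖ ⥤ A} (φ : P ⟶ Q) [Presheaf.IsLocallySurjective L φ]
    (hQ : ∀ V : D, (⊥ : Sieve V) ∈ L V → Subsingleton (ToType (Q.obj (op V))))
    (hP : ∀ V : D, (⊥ : Sieve V) ∈ L V → Nonempty (ToType (P.obj (op V)))) :
    Presheaf.IsLocallySurjective J (Functor.whiskerLeft G.op φ) := ⟨fun {U} s => by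
  obtain ⟨R', hR', h⟩ := hG U _ (Presheaf.imageSieve_mem L φ (U := op (G.obj U)) s)
  refine J.superset_covering (fun V g hg => ?_) hR'
  rcases h g hg with hb | hr
  · obtain ⟨y⟩ := hP _ hb
    exact ⟨y, (hQ _ hb).elim _ _⟩
  · exact hr⟩

theorem equalizerSieve_mem (hG : BigSite.IsAlmostCocontinuous G J L) {A : Type*} [Category A] {FA : A → A → Type*}
    {CA : A → Type w} [∀ X Y, FunLike (FA X Y) (CA X) (CA Y)] [ConcreteCategory.{w} A FA]
    {P Q : Dᵒᵖ ⥤ A} (φ : P ⟶ Q) [Presheaf.IsLocallyInjective L φ]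
    (hP : ∀ V : D, (⊥ : Sieve V) ∈ L V → Subsingleton (ToType (P.obj (op V)))) :
    Presheaf.IsLocallyInjective J (Functor.whiskerLeft G.op φ) := ⟨fun {U} x y h => by
  obtain ⟨R', hR', hh⟩ := hG U.unop _ (Presheaf.equalizerSieve_mem L φ (X := op (G.obj U.unop)) x y h)
  refine J.superset_covering (fun V g hg => ?_) hR'
  rcases hh g hg with hb | hr
  · exact (hP _ hb).elim _ _
  · exact hr⟩

theorem subsingleton_of_bot (F : Sheaf L (Type w)) (V : D) (h : (⊥ : Sieve V) ∈ L V) :
    Subsingleton (F.obj.obj (op V)) ∧ Nonempty (F.obj.obj (op V)) := by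
  have := Types.isTerminalEquivUnique _ (Sheaf.isTerminalOfBotCover F V h)
  exact ⟨inferInstance, inferInstance⟩

variable [G.IsContinuous J L]

theorem preservesColimitsOfShape_push {K : Type u₁} [Category K] [IsConnected K]
    (hG : BigSite.IsAlmostCocontinuous G J L)
    [HasColimitsOfShape K (Type w)] [HasSheafify L (Type w)] [J.WEqualsLocallyBijective (Type w)]
    [L.WEqualsLocallyBijective (Type w)] :
    PreservesColimitsOfShape K (G.sheafPushforwardContinuous (Type w) J L) := ⟨fun {T} => by
  let E := colimit.cocone (T ⋙ sheafToPresheaf L (Type w))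
  have hE : IsColimit E := colimit.isColimit _
  refine preservesColimit_of_preserves_colimit_cocone (Sheaf.isColimitSheafifyCocone E hE) ?_
  let wh := (Functor.whiskeringLeft Cᵒᵖ Dᵒᵖ (Type w)).obj G.op
  let E' := wh.mapCocone E
  have hE' : IsColimit E' := evaluationJointlyReflectsColimits _ fun U =>
    isColimitOfPreserves ((evaluation Dᵒᵖ (Type w)).obj (G.op.obj U)) hE
  have hpt : ∀ V : D, (⊥ : Sieve V) ∈ L V →
      Subsingleton (E.pt.obj (op V)) ∧ Nonempty (E.pt.obj (op V)) := fun V hV => by
    have hc := isColimitOfPreserves ((evaluation Dᵒᵖ (Type w)).obj (op V)) hE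
    let e : K → E.pt.obj (op V) := fun j => (E.ι.app j).app (op V) (subsingleton_of_bot (T.obj j) V hV).2.some
    have he : ∀ j₁ j₂, e j₁ = e j₂ := constant_of_preserves_morphisms e fun j₁ j₂ φ => by
      refine (congrArg (fun k => k.app (op V) (subsingleton_of_bot (T.obj j₁) V hV).2.some) (E.w φ)).symm.trans ?_
      exact congrArg ((E.ι.app j₂).app (op V)) ((subsingleton_of_bot (T.obj j₂) V hV).1.elim _ _)
    have key : ∀ c : E.pt.obj (op V), ∃ j, e j = c := fun c => by
      obtain ⟨j, y, hy⟩ := Types.jointly_surjective _ hc c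
      exact ⟨j, (congrArg ((E.ι.app j).app (op V)) ((subsingleton_of_bot (T.obj j) V hV).1.elim _ y)).trans hy⟩
    refine ⟨⟨fun a b => ?_⟩, ⟨e (Classical.arbitrary K)⟩⟩
    obtain ⟨j, rfl⟩ := key a
    obtain ⟨j', rfl⟩ := key b
    exact he j j'
  let w := Functor.whiskerLeft G.op (toSheafify L E.pt)
  let Q : Sheaf L (Type w) := (presheafToSheaf L (Type w)).obj E.pt
  haveI : Presheaf.IsLocallySurjective J w := imageSieve_mem G hG (toSheafify L E.pt)
    (fun V hV => (subsingleton_of_bot Q V hV).1) (fun V hV => (hpt V hV).2)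
  haveI : Presheaf.IsLocallyInjective J w := equalizerSieve_mem G hG (toSheafify L E.pt)
    (fun V hV => (hpt V hV).1)
  have hw : J.W w := (J.W_iff_isLocallyBijective w).2 ⟨inferInstance, inferInstance⟩
  have hι : ∀ k, (((G.sheafPushforwardContinuous (Type w) J L).mapCocone (Sheaf.sheafifyCocone E)).ι.app k).hom =
      E'.ι.app k ≫ w := fun k => by
    change Functor.whiskerLeft G.op ((Sheaf.sheafifyCocone E).ι.app k).hom = _
    rw [Sheaf.sheafifyCocone_ι_app_val]
    rfl
  let s' : ∀ s : Cocone (T ⋙ G.sheafPushforwardContinuous (Type w) J L),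
      Cocone ((T ⋙ sheafToPresheaf L (Type w)) ⋙ wh) := fun s =>
    { pt := s.pt.obj
      ι :=
        { app := fun k => (s.ι.app k).hom
          naturality := fun {k k'} e => congrArg (fun m => m.hom) (s.ι.naturality e) } }
  exact {
    desc := fun s => ⟨((hw _ s.pt.property).2 (hE'.desc (s' s))).choose⟩
    fac := fun s k => by
      refine Sheaf.hom_ext ?_
      change (((G.sheafPushforwardContinuous (Type w) J L).mapCocone (Sheaf.sheafifyCocone E)).ι.app k).hom ≫ _ = _
      rw [hι, Category.assoc]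
      refine (congrArg (E'.ι.app k ≫ ·) ((hw _ s.pt.property).2 (hE'.desc (s' s))).choose_spec).trans ?_
      exact hE'.fac (s' s) k
    uniq := fun s m hm => by
      refine Sheaf.hom_ext ((hw _ s.pt.property).1 (Eq.trans ?_
        ((hw _ s.pt.property).2 (hE'.desc (s' s))).choose_spec.symm))
      refine hE'.uniq (s' s) (w ≫ m.hom) fun k => ?_
      rw [← Category.assoc, ← hι]
      exact congrArg (fun e => e.hom) (hm k) }⟩

theorem preservesEpi_push (hG : BigSite.IsAlmostCocontinuous G J L) [HasSheafify J AddCommGrpCat.{w}]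
    [HasSheafify L AddCommGrpCat.{w}] [J.WEqualsLocallyBijective AddCommGrpCat.{w}]
    [L.WEqualsLocallyBijective AddCommGrpCat.{w}] {A B : Sheaf L AddCommGrpCat.{w}} (φ : A ⟶ B) [Epi φ] :
    Epi ((G.sheafPushforwardContinuous AddCommGrpCat.{w} J L).map φ) := by
  haveI : Sheaf.IsLocallySurjective φ :=
    (Sheaf.isLocallySurjective_iff_epi' (A := AddCommGrpCat.{w}) φ).2 inferInstance
  haveI : Presheaf.IsLocallySurjective L φ.hom := inferInstanceAs (Sheaf.IsLocallySurjective φ)
  haveI : Sheaf.IsLocallySurjective ((G.sheafPushforwardContinuous AddCommGrpCat.{w} J L).map φ) :=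
    imageSieve_mem G hG φ.hom (fun V hV => ?_) fun V hV => ⟨0⟩
  · exact Sheaf.epi_of_isLocallySurjective _
  · have ht := Sheaf.isTerminalOfBotCover B V hV
    exact AddCommGrpCat.subsingleton_of_isZero (IsZero.of_iso (isZero_zero _)
      (ht.uniqueUpToIso (isZero_zero AddCommGrpCat.{w}).isTerminal))

end Groth.Agent.Desc19b.SiteRes.Almost
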