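import Groth.Agent.EtCmp.AdjExt
import Groth.Agent.EtZarCmp.Cohom
import Groth.Agent.SiteCoh.Leray

/-!
# Cohomology and restriction along continuous cocontinuous functors
-/

set_option autoImplicit false
set_option backward.isDefEq.respectTransparency false
set_option backward.isDefEq.respectTransparency.types false
set_option synthInstance.maxHeartbeats 400000
set_option linter.style.haveILetI false
set_option linter.unusedSectionVars false

universe w v₁ v₂ u₁ u₂

open CategoryTheory CategoryTheory.Limits CategoryTheory.Abelian Opposite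

namespace Groth.Agent.Desc19b.SiteRes

variable {C : Type u₁} [Category.{v₁} C] {D : Type u₂} [Category.{v₂} D] {J : GrothendieckTopology C}
  {K : GrothendieckTopology D} (G : C ⥤ D) [G.IsContinuous J K]
  [HasSheafify J AddCommGrpCat.{w}] [HasSheafify K AddCommGrpCat.{w}]
  [K.WEqualsLocallyBijective AddCommGrpCat.{w}] [J.WEqualsLocallyBijective AddCommGrpCat.{w}]

/-- Restriction along a continuous cocontinuous functor. -/
noncomputable abbrev res : Sheaf K AddCommGrpCat.{w} ⥤ Sheaf J AddCommGrpCat.{w} :=
  G.sheafPushforwardContinuous AddCommGrpCat.{w} J K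

instance additive_res : (res (J := J) (K := K) G).Additive where

variable [G.IsCocontinuous J K]

theorem epi_res {F F' : Sheaf K AddCommGrpCat.{w}} (g : F ⟶ F') [Epi g] : Epi ((res (J := J) G).map g) := by
  haveI : Sheaf.IsLocallySurjective g :=
    (Sheaf.isLocallySurjective_iff_epi' (A := AddCommGrpCat.{w}) g).2 inferInstance
  haveI : Sheaf.IsLocallySurjective ((res (J := J) G).map g) := ⟨fun {U} x =>
    J.superset_covering (fun V f hf => by exact hf)
      (G.cover_lift J K (Presheaf.imageSieve_mem K g.hom (x : F'.obj.obj (op (G.obj U)))))⟩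
  exact Sheaf.epi_of_isLocallySurjective _

variable [(G.sheafPushforwardContinuous AddCommGrpCat.{w} J K).IsRightAdjoint]
  [PreservesFiniteLimits (G.sheafPullback AddCommGrpCat.{w} J K)]
  [EnoughInjectives (Sheaf K AddCommGrpCat.{w})] [HasInjectiveResolutions (Sheaf K AddCommGrpCat.{w})]
  [HasExt.{w} (Sheaf K AddCommGrpCat.{w})] [HasExt.{w} (Sheaf J AddCommGrpCat.{w})]

theorem nonempty_H_res {T : C} (hT : IsTerminal T) (hGT : IsTerminal (G.obj T))
    (F : Sheaf K AddCommGrpCat.{w}) (n : ℕ) :
    Nonempty (Sheaf.H ((res (J := J) G).obj F) n ≃+ Sheaf.H F n) := by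
  let adj := G.sheafAdjunctionContinuous AddCommGrpCat.{w} J K
  haveI : PreservesFiniteLimits (res (J := J) (K := K) G) := by
    haveI : PreservesLimitsOfSize.{0, 0} (res (J := J) (K := K) G) := adj.rightAdjoint_preservesLimits
    exact PreservesLimitsOfSize.preservesFiniteLimits _
  haveI : PreservesFiniteColimits (res (J := J) (K := K) G) := by
    rw [Functor.preservesFiniteColimits_iff_forall_exact_map_and_epi]
    intro S hS
    haveI := hS.epi_g
    exact ⟨((Functor.preservesFiniteLimits_iff_forall_exact_map_and_mono _).1 inferInstance S hS).1, epi_res G S.g⟩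
  haveI : PreservesFiniteColimits (G.sheafPullback AddCommGrpCat.{w} J K) := by
    haveI := adj.leftAdjoint_preservesColimits
    infer_instance
  haveI : PreservesBinaryBiproducts (G.sheafPullback AddCommGrpCat.{w} J K) :=
    preservesBinaryBiproducts_of_preservesBinaryCoproducts _
  haveI : (G.sheafPullback AddCommGrpCat.{w} J K).Additive := Functor.additive_of_preservesBinaryBiproducts _
  let A := AddCommGrpCat.of (ULift.{w} ℤ)
  let e : (G.sheafPullback AddCommGrpCat.{w} J K).obj ((constantSheaf J AddCommGrpCat.{w}).obj A) ≅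
      (constantSheaf K AddCommGrpCat.{w}).obj A :=
    ((((constantSheafAdj J AddCommGrpCat.{w} hT).comp adj).ofNatIsoRight
      (show res (J := J) G ⋙ (sheafSections J AddCommGrpCat.{w}).obj (op T) ≅
          (sheafSections K AddCommGrpCat.{w}).obj (op (G.obj T)) from
        NatIso.ofComponents (fun _ => Iso.refl _) (fun f => by
          dsimp
          simp only [Category.comp_id, Category.id_comp]
          rfl))).leftAdjointUniq
      (constantSheafAdj K AddCommGrpCat.{w} hGT)).app A
  have h := EtCmp.bijective_adjExtHom adj ((constantSheaf J AddCommGrpCat.{w}).obj A) n F (fun q hq => by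
    obtain ⟨k, rfl⟩ : ∃ k, q = k + 1 := ⟨q - 1, by omega⟩
    exact SiteCoh.isZero_rightDerived_of_exact _ F k)
  let e' : Ext.{w} ((G.sheafPullback AddCommGrpCat.{w} J K).obj ((constantSheaf J AddCommGrpCat.{w}).obj A)) F n ≃+
      Sheaf.H F n :=
    { toFun := fun x => (Ext.mk₀ e.inv).comp x (zero_add n)
      invFun := fun x => (Ext.mk₀ e.hom).comp x (zero_add n)
      left_inv := fun x => by
        dsimp only
        rw [Ext.mk₀_comp_mk₀_assoc, Iso.hom_inv_id, Ext.mk₀_id_comp]
      right_inv := fun x => by
        dsimp only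
        rw [Ext.mk₀_comp_mk₀_assoc, Iso.inv_hom_id, Ext.mk₀_id_comp]
      map_add' := fun x y => Ext.comp_add _ _ _ _ }
  exact ⟨(AddEquiv.ofBijective _ h).trans e'⟩

end Groth.Agent.Desc19b.SiteRes
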