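import Groth.Agent.Desc19b.SiteRes.Comp
import Groth.Agent.Desc19b.SiteRes.FF
import Groth.Agent.DCat.FlatPull

/-!
# The inverse image on the big étale site, restricted to a small one
-/

set_option autoImplicit false
set_option backward.isDefEq.respectTransparency false
set_option backward.isDefEq.respectTransparency.types false
set_option synthInstance.maxHeartbeats 400000
set_option linter.style.haveILetI false
set_option linter.unusedSectionVars false

universe u

open CategoryTheory CategoryTheory.Limits AlgebraicGeometry Opposite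

namespace Groth.Agent.Desc19b.SiteRes

variable {S T : Scheme.{u}}

theorem isIso_counit_iEtAdj (T : Scheme.{u}) : IsIso (BigSite.iEtAdj Scheme.etalePrecoverage T).counit := by
  haveI : (EtFppf.a T).Full := inferInstanceAs (Scheme.Etale.forget T).Full
  haveI : (EtFppf.a T).Faithful := inferInstanceAs (Scheme.Etale.forget T).Faithful
  haveI := isIso_unit_pull T.smallEtaleTopology (QuotSh.J Scheme.etalePrecoverage T) (EtFppf.a T) AddCommGrpCat.{u + 1}
  exact (⟨BigSite.piEtAdj Scheme.etalePrecoverage T, BigSite.iEtAdj Scheme.etalePrecoverage T⟩ :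
    Adjunction.Triple _ _ _).isIso_unit_iff_isIso_counit.1 inferInstance

/-- Restricting the inverse image gives the inverse image. -/
noncomputable def piPullIso (f : T ⟶ S) :
    BigSite.piEtPull Scheme.etalePrecoverage S ⋙ BigSite.resEtAlong Scheme.etalePrecoverage f ≅ EtCoh.pull f :=
  haveI := isIso_counit_iEtAdj T
  (((BigSite.piEtAdj Scheme.etalePrecoverage S).comp
      ((BigSite.bigAdj Scheme.etalePrecoverage f AddCommGrpCat.{u + 1}).comp
        (BigSite.iEtAdj Scheme.etalePrecoverage T))).ofNatIsoRight
    (Functor.associator _ _ _ ≪≫ Functor.isoWhiskerLeft _ (pushResIso f) ≪≫ (Functor.associator _ _ _).symm ≪≫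
      Functor.isoWhiskerRight (asIso (BigSite.iEtAdj Scheme.etalePrecoverage T).counit) _ ≪≫
      Functor.leftUnitor _)).leftAdjointUniq (EtCoh.pullPushAdj f)

theorem nonempty_HU_piPull (f : T ⟶ S) (n : ℕ) (F : EtCoh.Ab S) :
    Nonempty (BigSite.HU Scheme.etalePrecoverage ((BigSite.piEtPull Scheme.etalePrecoverage S).obj F) n (Over.mk f) ≃+
      EtCoh.H T ((EtCoh.pull f).obj F) n) := by
  obtain ⟨e⟩ := nonempty_H_resEt T ((BigSite.pullBig Scheme.etalePrecoverage f AddCommGrpCat.{u + 1}).obj
    ((BigSite.piEtPull Scheme.etalePrecoverage S).obj F)) n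
  exact ⟨e.symm.trans ((EtCoh.HF T n).mapIso ((piPullIso f).app F)).addCommGroupIsoToAddEquiv⟩

theorem nonempty_sections_piPull (F : EtCoh.Ab S) (T : Over S) :
    Nonempty (((BigSite.piEtPull Scheme.etalePrecoverage S).obj F).obj.obj (op T) ≅
      ((EtCoh.pull T.hom).obj F).obj.obj (op (EtCoh.top T.left))) :=
  ⟨((BigSite.piEtPull Scheme.etalePrecoverage S).obj F).obj.mapIso
      (Over.isoMk (Iso.refl _) (by
        show 𝟙 T.left ≫ T.hom = 𝟙 T.left ≫ T.hom
        rfl) :
        (Over.map T.hom).obj ((EtFppf.a T.left).obj (EtCoh.top T.left)) ≅ T).op ≪≫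
    ((sheafSections _ AddCommGrpCat.{u + 1}).obj (op (EtCoh.top T.left))).mapIso ((piPullIso T.hom).app F)⟩

theorem isKInjective_resEtAlong (I : CochainComplex (BigSite.Ab Scheme.etalePrecoverage S) ℤ) [I.IsKInjective]
    (f : T ⟶ S) :
    CochainComplex.IsKInjective
      (((BigSite.resEtAlong Scheme.etalePrecoverage f).mapHomologicalComplex (ComplexShape.up ℤ)).obj I) := by
  let adj := (BigSite.piEtAdj Scheme.etalePrecoverage T).comp (BigSite.shriekAbAdj Scheme.etalePrecoverage f)
  haveI := preservesFiniteLimits_shriekAb f Scheme.etalePrecoverage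
  let L := BigSite.piEtPull Scheme.etalePrecoverage T ⋙ BigSite.shriekAb Scheme.etalePrecoverage f
  haveI : L.Additive := adj.left_adjoint_additive
  haveI : PreservesFiniteLimits L := comp_preservesFiniteLimits _ _
  haveI : PreservesFiniteColimits L := by
    haveI : PreservesColimitsOfSize.{0, 0} L := adj.leftAdjoint_preservesColimits
    exact PreservesColimitsOfSize.preservesFiniteColimits _
  exact DCat.FlatPull.isKInjective_map_of_adj adj I

theorem isKInjective_resEt (I : CochainComplex (BigSite.Ab Scheme.etalePrecoverage S) ℤ) [I.IsKInjective] :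
    CochainComplex.IsKInjective
      (((BigSite.resEt Scheme.etalePrecoverage S).mapHomologicalComplex (ComplexShape.up ℤ)).obj I) := by
  let adj := BigSite.piEtAdj Scheme.etalePrecoverage S
  haveI : (BigSite.piEtPull Scheme.etalePrecoverage S).Additive := adj.left_adjoint_additive
  haveI : PreservesFiniteColimits (BigSite.piEtPull Scheme.etalePrecoverage S) := by
    haveI : PreservesColimitsOfSize.{0, 0} (BigSite.piEtPull Scheme.etalePrecoverage S) :=
      adj.leftAdjoint_preservesColimits
    exact PreservesColimitsOfSize.preservesFiniteColimits _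
  exact DCat.FlatPull.isKInjective_map_of_adj adj I

end Groth.Agent.Desc19b.SiteRes
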