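import Groth.Agent.Desc19b.SiteRes.SectEt
import Groth.Agent.Desc19b.SiteRes.Pull
import Groth.Agent.Et18.Fppf.ProperPush
import Groth.Agent.Et18.FinitePush

/-!
# Big and small direct images along finite morphisms
-/

set_option autoImplicit false
set_option backward.isDefEq.respectTransparency.types false
set_option backward.isDefEq.respectTransparency false
set_option linter.style.haveILetI false
set_option linter.all false

universe u

open CategoryTheory CategoryTheory.Limits AlgebraicGeometry Opposite
open Groth.Agent.Et18 Groth.Agent.Et18.Fppf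

namespace Groth.Agent.Desc19b.SiteRes

variable {T S : Scheme.{u}}

theorem isZero_of_resEtAlong {G : BigSite.Ab Scheme.etalePrecoverage S}
    (h : ∀ V : Over S, IsZero ((BigSite.resEtAlong Scheme.etalePrecoverage V.hom).obj G)) : IsZero G := by
  have : ∀ V : Over S, IsZero (G.obj.obj (op V)) := fun V => by
    have h' := ((sheafSections _ AddCommGrpCat.{u + 1}).obj (op (EtCoh.top V.left))).map_isZero (h V)
    refine h'.of_iso (G.obj.mapIso (Over.isoMk (Iso.refl _) (by
        show 𝟙 V.left ≫ V.hom = 𝟙 V.left ≫ V.hom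
        rfl) : (Over.map V.hom).obj ((EtFppf.a V.left).obj (EtCoh.top V.left)) ≅ V).op)
  rw [IsZero.iff_id_eq_zero]
  refine Sheaf.hom_ext (NatTrans.ext (funext fun V => (this V.unop).eq_of_src _ _))

theorem isZero_rpushBig_of_isFinite (f : T ⟶ S) [IsFinite f] (G : BigSite.Ab Scheme.etalePrecoverage T)
    {q : ℕ} (hq : 1 ≤ q) : IsZero ((BigSite.RpushBig Scheme.etalePrecoverage f q).obj G) := by
  refine isZero_of_resEtAlong fun V => ?_
  obtain ⟨e⟩ := nonempty_resEtAlong_rpushBig (IsPullback.of_hasPullback f V.hom) G q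
  haveI : IsFinite (pullback.snd f V.hom) := MorphismProperty.pullback_snd f V.hom inferInstance
  exact (Et18.Rpush_isZero_of_integral (pullback.snd f V.hom) _ q hq).of_iso e

/-- The presheaf iso in degree zero. -/
noncomputable def sectPushPresheafIso (f : T ⟶ S) [IsProper f] (F : EtCoh.Ab T) :
    sectPresheaf ((EtCoh.push f).obj F) ≅ (Over.pullback f).op ⋙ sectPresheaf F :=
  haveI := isIso_descHom_pushUnit (f := f) (F := F)
  (sheafToPresheaf _ _).mapIso (asIso (descHom (pushUnit f F)))

/-- The inverse image to the big étale site commutes with proper direct image in degree zero. -/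
noncomputable def piPullPushIso (f : T ⟶ S) [IsProper f] (F : EtCoh.Ab T) :
    (BigSite.piEtPull Scheme.etalePrecoverage S).obj ((EtCoh.push f).obj F) ≅
      (BigSite.pushBig Scheme.etalePrecoverage f AddCommGrpCat.{u + 1}).obj
        ((BigSite.piEtPull Scheme.etalePrecoverage T).obj F) :=
  SectEt.piPullSectIso _ ≪≫
    (fullyFaithfulSheafToPresheaf _ _).preimageIso (Y := (BigSite.pushBig Scheme.etalePrecoverage f
      AddCommGrpCat.{u + 1}).obj (SectEt.sectSheafEt F)) (sectPushPresheafIso f F) ≪≫
    (BigSite.pushBig Scheme.etalePrecoverage f AddCommGrpCat.{u + 1}).mapIso (SectEt.piPullSectIso F).symm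

theorem nonempty_piPull_rpush_of_isFinite (f : T ⟶ S) [IsFinite f] (F : EtCoh.Ab T) (q : ℕ) :
    Nonempty ((BigSite.piEtPull Scheme.etalePrecoverage S).obj ((EtCoh.Rpush f q).obj F) ≅
      (BigSite.RpushBig Scheme.etalePrecoverage f q).obj ((BigSite.piEtPull Scheme.etalePrecoverage T).obj F)) := by
  rcases Nat.eq_zero_or_pos q with rfl | hq
  · haveI : PreservesFiniteLimits (BigSite.pushBig Scheme.etalePrecoverage f AddCommGrpCat.{u + 1}) :=
      haveI : PreservesLimitsOfSize.{0, 0} (BigSite.pushBig Scheme.etalePrecoverage f AddCommGrpCat.{u + 1}) :=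
        (BigSite.bigAdj Scheme.etalePrecoverage f AddCommGrpCat.{u + 1}).rightAdjoint_preservesLimits
      PreservesLimitsOfSize.preservesFiniteLimits _
    haveI : PreservesFiniteLimits (EtCoh.push f) :=
      haveI : PreservesLimitsOfSize.{0, 0} (EtCoh.push f) := (EtCoh.pullPushAdj f).rightAdjoint_preservesLimits
      PreservesLimitsOfSize.preservesFiniteLimits _
    exact ⟨(BigSite.piEtPull Scheme.etalePrecoverage S).mapIso ((EtCoh.push f).rightDerivedZeroIsoSelf.app F) ≪≫
      piPullPushIso f F ≪≫
      ((BigSite.pushBig Scheme.etalePrecoverage f AddCommGrpCat.{u + 1}).rightDerivedZeroIsoSelf.app _).symm⟩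
  · haveI : (BigSite.piEtPull Scheme.etalePrecoverage S).Additive :=
      (BigSite.piEtAdj Scheme.etalePrecoverage S).left_adjoint_additive
    exact ⟨IsZero.iso ((BigSite.piEtPull Scheme.etalePrecoverage S).map_isZero
      (Et18.Rpush_isZero_of_integral f F q hq)) (isZero_rpushBig_of_isFinite f _ hq)⟩

end Groth.Agent.Desc19b.SiteRes
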