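import Groth.Prelude.Def_BigSite

/-!
# Big direct image along a monomorphism
-/

set_option autoImplicit false
set_option backward.isDefEq.respectTransparency false
set_option backward.isDefEq.respectTransparency.types false
set_option linter.style.haveILetI false

universe v' u' u

open CategoryTheory CategoryTheory.Limits AlgebraicGeometry Opposite

namespace Groth.Agent.Desc19b.SiteRes

theorem isIso_counit_bigAdj {X Y : Scheme.{u}} (f : X ⟶ Y) [Mono f] (K : Precoverage Scheme.{u})
    (A : Type u') [Category.{v'} A] (F : Sheaf (QuotSh.J K X) A) :
    IsIso ((BigSite.bigAdj K f A).counit.app F) := by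
  haveI : ∀ U : Over X, IsIso ((Over.mapPullbackAdj f).unit.app U) := fun U => by
    haveI : (Over.map f).Full := ⟨fun {A B} g => ⟨Over.homMk g.left ((cancel_mono f).1 (by simpa using Over.w g)),
      Over.OverMorphism.ext rfl⟩⟩
    haveI : (Over.map f).Faithful := ⟨fun {A B} a b h => Over.OverMorphism.ext (congrArg (fun t => t.left) h :)⟩
    infer_instance
  haveI : IsIso ((sheafToPresheaf _ _).map ((BigSite.bigAdj K f A).counit.app F)) := by
    haveI : ∀ U, IsIso (((BigSite.bigAdj K f A).counit.app F).hom.app U) := fun U => by
      have e : ((BigSite.bigAdj K f A).counit.app F).hom.app U =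
          F.obj.map ((Over.mapPullbackAdj f).unit.app U.unop).op := by
        simp [BigSite.bigAdj]
      rw [e]
      exact @Functor.map_isIso _ _ _ _ _ _ _ _ inferInstance
    exact NatIso.isIso_of_isIso_app ((BigSite.bigAdj K f A).counit.app F).hom
  exact isIso_of_fully_faithful (sheafToPresheaf _ _) _

end Groth.Agent.Desc19b.SiteRes
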