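import Groth.Agent.Desc19b.SiteRes.SectSets
import Groth.Agent.Desc19b.SiteRes.Comp
import Groth.Agent.Desc19b.SiteRes.Big
import Groth.Agent.Et18.Fppf.ProperPush

/-!
# Proper direct images of sheaves of sets and the inverse image to the big étale site
-/

set_option autoImplicit false
set_option backward.isDefEq.respectTransparency.types false
set_option backward.isDefEq.respectTransparency false
set_option linter.style.haveILetI false
set_option linter.all false

universe u

open CategoryTheory CategoryTheory.Limits AlgebraicGeometry Opposite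
open Groth.Agent.Et18 Groth.Agent.Et18.H0Lift

namespace Groth.Agent.Desc19b.SiteRes

open SectSets (piSets resSets adjSets setsBig ShBig piSetsIso)

variable {T S : Scheme.{u}} (f : T ⟶ S)

theorem preservesFiniteLimits_piSets (X : Scheme.{u}) : PreservesFiniteLimits (piSets X) := by
  haveI : AB5OfSize.{u + 1, u + 1} (Type (u + 1)) := ⟨fun J _ _ => ⟨inferInstance⟩⟩
  haveI : AB5OfSize.{u, u + 1} (Type (u + 1)) := AB5OfSize_of_univLE.{u, u + 1, u + 1, u + 1, u + 1, u + 2} (Type (u + 1))
  haveI := EtZarCmp.lan_preservesFiniteLimits (Type (u + 1)) (EtFppf.a X)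
  exact Functor.sheafPullbackConstruction.preservesFiniteLimits (EtFppf.a X) (Type (u + 1))
    X.smallEtaleTopology (QuotSh.J Scheme.etalePrecoverage X)

/-- Restriction to small sites commutes with direct image, for sheaves of sets. -/
noncomputable def pushResSetsIso :
    BigSite.pushBig Scheme.etalePrecoverage f (Type (u + 1)) ⋙ resSets S ≅ resSets T ⋙ EtDesc.pushSh f :=
  haveI : (EtFppf.a S ⋙ Over.pullback f).IsContinuous S.smallEtaleTopology
      (QuotSh.J Scheme.etalePrecoverage T) :=
    Functor.isContinuous_comp (EtFppf.a S) (Over.pullback f) _ (QuotSh.J Scheme.etalePrecoverage S) _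
  haveI : (EtCoh.bc f ⋙ EtFppf.a T).IsContinuous S.smallEtaleTopology
      (QuotSh.J Scheme.etalePrecoverage T) :=
    Functor.isContinuous_comp (EtCoh.bc f) (EtFppf.a T) _ T.smallEtaleTopology _
  Functor.sheafPushforwardContinuousComp' (Iso.refl (EtFppf.a S ⋙ Over.pullback f)) (Type (u + 1))
      S.smallEtaleTopology (QuotSh.J Scheme.etalePrecoverage S) (QuotSh.J Scheme.etalePrecoverage T) ≪≫
    (Functor.sheafPushforwardContinuousComp' (aPullbackIso f).symm (Type (u + 1))
      S.smallEtaleTopology T.smallEtaleTopology (QuotSh.J Scheme.etalePrecoverage T)).symm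

theorem pushResSetsIso_inv_app (H : ShBig T) (U : S.Etaleᵒᵖ) :
    ((pushResSetsIso f).inv.app H).hom.app U = H.obj.map ((aPullbackIso f).hom.app U.unop).op := by
  simp [pushResSetsIso, Functor.sheafPushforwardContinuousComp', Functor.sheafPushforwardContinuousComp,
    Functor.sheafPushforwardContinuousIso]
  rfl

/-- The comparison of direct images of sheaves of sets. -/
noncomputable def pushSetsComp :
    EtDesc.pushSh f ⋙ piSets S ⟶ piSets T ⋙ BigSite.pushBig Scheme.etalePrecoverage f (Type (u + 1)) where
  app F := ((adjSets S).homEquiv _ _).symm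
    ((EtDesc.pushSh f).map ((adjSets T).unit.app F) ≫ (pushResSetsIso f).inv.app ((piSets T).obj F))
  naturality F G a := by
    apply ((adjSets S).homEquiv _ _).injective
    simp only [Functor.comp_map]
    rw [Adjunction.homEquiv_naturality_left, Equiv.apply_symm_apply, Adjunction.homEquiv_naturality_right,
      Equiv.apply_symm_apply, ← Category.assoc, ← Functor.map_comp, Category.assoc]
    have h1 : a ≫ (adjSets T).unit.app G = (adjSets T).unit.app F ≫ (resSets T).map ((piSets T).map a) :=
      (adjSets T).unit.naturality a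
    rw [h1, Functor.map_comp, Category.assoc]
    congr 1
    exact (pushResSetsIso f).inv.naturality ((piSets T).map a)

/-- Restricting along an endomorphism with identity underlying map does nothing. -/
theorem res_endo {X : Scheme.{u}} {F : EtCoh.Ab X} {R : Over X} (a : R ⟶ R) (ha : a.left = 𝟙 R.left)
    (σ : Fppf.GSect F R) : Fppf.res a σ = σ := by
  rw [show a = 𝟙 R from Over.OverMorphism.ext ha]
  exact Fppf.res_id _ _

variable [IsProper f]

/-- The presheaf isomorphism on sections. -/
noncomputable def sectPushSetsIso (A : EtCoh.Ab T) :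
    (setsBig S).obj (SectEt.sectSheafEt ((EtCoh.push f).obj A)) ≅
      (BigSite.pushBig Scheme.etalePrecoverage f (Type (u + 1))).obj ((setsBig T).obj (SectEt.sectSheafEt A)) :=
  haveI := Fppf.isIso_descHom_pushUnit (f := f) (F := A)
  (fullyFaithfulSheafToPresheaf _ _).preimageIso
    (X := (setsBig S).obj (SectEt.sectSheafEt ((EtCoh.push f).obj A)))
    (Y := (BigSite.pushBig Scheme.etalePrecoverage f (Type (u + 1))).obj ((setsBig T).obj (SectEt.sectSheafEt A)))
    (Functor.isoWhiskerRight ((sheafToPresheaf _ _).mapIso (asIso (Fppf.descHom (Fppf.pushUnit f A))))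
      (forget AddCommGrpCat.{u + 1}))

theorem pushSetsComp_setsOf (A : EtCoh.Ab T) :
    (pushSetsComp f).app ((setsOf T).obj A) ≫
        (BigSite.pushBig Scheme.etalePrecoverage f (Type (u + 1))).map (piSetsIso A).hom =
      (piSetsIso ((EtCoh.push f).obj A)).hom ≫ (sectPushSetsIso f A).hom := by
  apply ((adjSets S).homEquiv _ _).injective
  have hn : (pushResSetsIso f).inv.app ((piSets T).obj ((setsOf T).obj A)) ≫
      (resSets S).map ((BigSite.pushBig Scheme.etalePrecoverage f (Type (u + 1))).map (piSetsIso A).hom) =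
      (EtDesc.pushSh f).map ((resSets T).map (piSetsIso A).hom) ≫
        (pushResSetsIso f).inv.app ((setsBig T).obj (SectEt.sectSheafEt A)) :=
    ((pushResSetsIso f).inv.naturality (piSetsIso A).hom).symm
  have hl : (adjSets S).homEquiv _ _ ((pushSetsComp f).app ((setsOf T).obj A)) =
      (EtDesc.pushSh f).map ((adjSets T).unit.app ((setsOf T).obj A)) ≫
        (pushResSetsIso f).inv.app ((piSets T).obj ((setsOf T).obj A)) := Equiv.apply_symm_apply _ _
  have hT := SectSets.homEquiv_piSetsIso_hom (X := T) (F := A)
  rw [Adjunction.homEquiv_unit] at hT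
  have hS : (adjSets S).homEquiv ((EtDesc.pushSh f).obj ((setsOf T).obj A)) _
      (piSetsIso ((EtCoh.push f).obj A)).hom = SectSets.sectUnitSets ((EtCoh.push f).obj A) :=
    SectSets.homEquiv_piSetsIso_hom
  refine ((adjSets S).homEquiv_naturality_right _ _).trans (Eq.trans ?_
    ((adjSets S).homEquiv_naturality_right _ _).symm)
  rw [hl, Category.assoc, hn, ← Category.assoc, ← Functor.map_comp, hT]
  refine Eq.trans ?_ (congrArg (fun k => k ≫ (resSets S).map (sectPushSetsIso f A).hom) hS).symm
  refine Sheaf.hom_ext (NatTrans.ext (funext fun U => ?_))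
  ext t
  have h1 : (Fppf.sectUnit ((EtCoh.push f).obj A) ≫
      (EtFppf.aPush S).map (Fppf.descHom (Fppf.pushUnit f A))).hom.app U = (Fppf.pushUnit f A).hom.app U := by
    rw [Fppf.sectUnit_descHom]
  have h2 := ConcreteCategory.congr_hom h1 t
  refine Eq.trans ?_ h2.symm
  refine (congrArg (fun k => k ((SectEt.sectUnit A).hom.app (op ((EtCoh.bc f).obj U.unop)) t))
    (pushResSetsIso_inv_app f ((setsBig T).obj (SectEt.sectSheafEt A)) U)).trans ?_
  refine (res_endo (R := (EtFppf.a T).obj ((EtCoh.bc f).obj U.unop)) ((aPullbackIso f).hom.app U.unop) rfl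
    ((SectEt.sectUnit A).hom.app (op ((EtCoh.bc f).obj U.unop)) t)).trans ?_
  rfl

theorem isIso_pushSetsComp (F : EtDesc.Sh T) : IsIso ((pushSetsComp f).app F) := by
  haveI := preservesFiniteLimits_piSets S
  haveI := preservesFiniteLimits_piSets T
  haveI : PreservesLimitsOfSize.{0, 0} (EtDesc.pushSh f) := (EtDesc.adjSh f).rightAdjoint_preservesLimits
  haveI : PreservesLimitsOfSize.{0, 0} (BigSite.pushBig Scheme.etalePrecoverage f (Type (u + 1))) :=
    (BigSite.bigAdj Scheme.etalePrecoverage f (Type (u + 1))).rightAdjoint_preservesLimits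
  haveI : PreservesFiniteLimits (EtDesc.pushSh f ⋙ piSets S) := comp_preservesFiniteLimits _ _
  haveI : PreservesFiniteLimits (piSets T ⋙ BigSite.pushBig Scheme.etalePrecoverage f (Type (u + 1))) :=
    comp_preservesFiniteLimits _ _
  refine isIso_app_of_setsOf (pushSetsComp f) (fun A => ?_) F
  have : IsIso ((pushSetsComp f).app ((setsOf T).obj A) ≫
      (BigSite.pushBig Scheme.etalePrecoverage f (Type (u + 1))).map (piSetsIso A).hom) := by
    rw [pushSetsComp_setsOf]
    exact IsIso.comp_isIso
  exact IsIso.of_isIso_comp_right ((pushSetsComp f).app ((setsOf T).obj A))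
    ((BigSite.pushBig Scheme.etalePrecoverage f (Type (u + 1))).map (piSetsIso A).hom)

theorem nonempty_pushSets_iso :
    Nonempty (EtDesc.pushSh f ⋙ piSets S ≅ piSets T ⋙ BigSite.pushBig Scheme.etalePrecoverage f (Type (u + 1))) := by
  haveI := isIso_pushSetsComp f
  haveI : IsIso (pushSetsComp f) := NatIso.isIso_of_isIso_app _
  exact ⟨asIso (pushSetsComp f)⟩

end Groth.Agent.Desc19b.SiteRes
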