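import Groth.Agent.Desc19b.SiteRes.SectEt
import Groth.Agent.Et18.H0Lift.SetsFromAb

/-!
# The inverse image of the underlying sheaf of sets of an abelian étale sheaf
-/

set_option autoImplicit false
set_option backward.isDefEq.respectTransparency.types false
set_option backward.isDefEq.respectTransparency false
set_option linter.all false

universe u

open CategoryTheory CategoryTheory.Limits AlgebraicGeometry Opposite
open Groth.Agent.Et18 Groth.Agent.Et18.H0Lift Groth.Agent.Et18.Fppf

namespace Groth.Agent.Desc19b.SiteRes.SectSets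

open SectEt (valG sectUnit sectSheafEt mem_J_of_etale)

variable {X : Scheme.{u}}

/-- Sheaves of sets on the big étale site. -/
abbrev ShBig (X : Scheme.{u}) := Sheaf (QuotSh.J Scheme.etalePrecoverage X) (Type (u + 1))

/-- The inverse image of sheaves of sets to the big étale site. -/
noncomputable abbrev piSets (X : Scheme.{u}) : EtDesc.Sh X ⥤ ShBig X :=
  (EtFppf.a X).sheafPullback (Type (u + 1)) X.smallEtaleTopology (QuotSh.J Scheme.etalePrecoverage X)

/-- Restriction of sheaves of sets to the small étale site. -/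
noncomputable abbrev resSets (X : Scheme.{u}) : ShBig X ⥤ EtDesc.Sh X :=
  (EtFppf.a X).sheafPushforwardContinuous (Type (u + 1)) X.smallEtaleTopology (QuotSh.J Scheme.etalePrecoverage X)

/-- The adjunction. -/
noncomputable abbrev adjSets (X : Scheme.{u}) : piSets X ⊣ resSets X :=
  (EtFppf.a X).sheafAdjunctionContinuous (Type (u + 1)) X.smallEtaleTopology (QuotSh.J Scheme.etalePrecoverage X)

/-- Underlying sheaves of sets on the big site. -/
noncomputable abbrev setsBig (X : Scheme.{u}) : BigSite.Ab Scheme.etalePrecoverage X ⥤ ShBig X :=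
  sheafCompose _ (forget AddCommGrpCat.{u + 1})

variable (H : ShBig X)

theorem ext_of_etale {W : Over X} {κ : Type (u + 1)} (R : κ → Over X) (a : ∀ k, R k ⟶ W)
    (he : ∀ k, Etale (a k).left) (hcov : ∀ y : W.left, ∃ k, y ∈ Set.range (a k).left)
    (s s' : H.obj.obj (op W)) (h : ∀ k, H.obj.map (a k).op s = H.obj.map (a k).op s') : s = s' := by
  refine ((CategoryTheory.isSheaf_iff_isSheaf_of_type _ _).1 H.property _
    (mem_J_of_etale R a he hcov)).isSeparatedFor.ext fun Z g hg => ?_
  obtain ⟨_, k, _, ⟨i⟩, rfl⟩ := hg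
  rw [op_comp, Functor.map_comp]
  exact congrArg (H.obj.map k.op) (h i)

theorem glue_of_etale {W : Over X} {κ : Type (u + 1)} (R : κ → Over X) (a : ∀ k, R k ⟶ W)
    (he : ∀ k, Etale (a k).left) (hcov : ∀ y : W.left, ∃ k, y ∈ Set.range (a k).left)
    (t : ∀ k, H.obj.obj (op (R k)))
    (h : ∀ (k l : κ) (P : Over X) (gk : P ⟶ R k) (gl : P ⟶ R l), gk ≫ a k = gl ≫ a l →
      H.obj.map gk.op (t k) = H.obj.map gl.op (t l)) :
    ∃ s : H.obj.obj (op W), ∀ k, H.obj.map (a k).op s = t k := by
  have hfor : (Presieve.ofArrows R a).IsSheafFor H.obj := by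
    rw [Presieve.isSheafFor_iff_generate]
    exact (CategoryTheory.isSheaf_iff_isSheaf_of_type _ _).1 H.property _ (mem_J_of_etale R a he hcov)
  obtain ⟨s, hs, -⟩ := (Presieve.isSheafFor_arrows_iff _ _).mp hfor t h
  exact ⟨s, hs⟩

variable {H} {F : EtCoh.Ab X} (φ : (setsOf X).obj F ⟶ (resSets X).obj H)

/-- The value in the target given by a section and a map to its domain. -/
noncomputable abbrev valH {R : Over X} (U : X.Etale) (m : R ⟶ (EtFppf.a X).obj U) (t : EtCoh.sect F U) :
    H.obj.obj (op R) :=
  H.obj.map m.op (φ.hom.app (op U) t)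

theorem map_valH {R R' : Over X} (p : R' ⟶ R) (U : X.Etale) (m : R ⟶ (EtFppf.a X).obj U)
    (t : EtCoh.sect F U) : H.obj.map p.op (valH φ U m t) = valH φ U (p ≫ m) t := by
  unfold valH
  rw [op_comp, Functor.map_comp]
  rfl

theorem valH_map {R : Over X} {U V : X.Etale} (g : V ⟶ U) (m : R ⟶ (EtFppf.a X).obj V)
    (t : EtCoh.sect F U) : valH φ V m (F.obj.map g.op t) = valH φ U (m ≫ (EtFppf.a X).map g) t := by
  refine (congrArg (H.obj.map m.op) (congrArg (fun k => k t) (φ.hom.naturality g.op))).trans ?_
  exact map_valH φ m U ((EtFppf.a X).map g) t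

theorem valH_eq_of_sub_eq_zero {R : Over X} (U : X.Etale) (m : R ⟶ (EtFppf.a X).obj U) (t t' : EtCoh.sect F U)
    (h : valG U m (t - t') = 0) : valH φ U m t = valH φ U m t' := by
  have key : ∀ y : R.left, ∃ (V : X.Etale) (g : V ⟶ U), F.obj.map g.op (t - t') = 0 ∧
      m.left y ∈ Set.range g.left := by
    intro y
    let ξ : FibrePts R.hom (algPoint R.left y ≫ R.hom) := ⟨algPoint R.left y, rfl⟩
    have h1 := SectEt.hasGerm_valG U m (t - t') ξ
    rw [h] at h1
    have h2 := not_mem_sectSupp_of_germ_eq_zero F _ U (t - t') _ (h1.unique (HasGerm.zero ξ))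
    simp only [EtShriek.sectSupp, Set.mem_setOf_eq, not_forall, not_not] at h2
    obtain ⟨V, g, ⟨v, hv⟩, h0⟩ := h2
    refine ⟨V, g, h0, v, hv.trans ?_⟩
    change m.left (algPoint R.left y default) = m.left y
    rw [algPoint_default]
  choose V g hg hy using key
  let P : ULift.{u + 1} R.left → Over X := fun y => Over.mk (pullback.fst m.left (g y.down).left ≫ R.hom)
  refine ext_of_etale H P (fun y => Over.homMk (pullback.fst m.left (g y.down).left) : ∀ y, P y ⟶ R)
    (fun y => ?_) (fun y => ?_) _ _ fun y => ?_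
  · have : Etale (g y.down).left := etale_map_left (g y.down)
    exact inferInstanceAs (Etale (pullback.fst m.left (g y.down).left))
  · obtain ⟨v, hv⟩ := hy y
    obtain ⟨z, hz, -⟩ := Scheme.Pullback.exists_preimage_pullback (f := m.left) (g := (g y).left) y v hv.symm
    exact ⟨⟨y⟩, z, hz⟩
  · let n : P y ⟶ (EtFppf.a X).obj (V y.down) := Over.homMk (pullback.snd m.left (g y.down).left) (by
      refine (congrArg (pullback.snd m.left (g y.down).left ≫ ·) (Over.w (g y.down).hom).symm).trans ?_
      refine (Category.assoc _ _ _).symm.trans ((congrArg (· ≫ _) pullback.condition.symm).trans ?_)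
      exact (Category.assoc _ _ _).trans (congrArg (pullback.fst m.left _ ≫ ·) (Over.w m)))
    have hn : (Over.homMk (pullback.fst m.left (g y.down).left) : P y ⟶ R) ≫ m = n ≫ (EtFppf.a X).map (g y.down) :=
      Over.OverMorphism.ext pullback.condition
    rw [map_valH, map_valH, hn, ← valH_map, ← valH_map]
    exact congrArg (valH φ _ n) (sub_eq_zero.1 ((map_sub _ t t').symm.trans (hg y.down)))

theorem valH_eq {R : Over X} (U₁ U₂ : X.Etale) (m₁ : R ⟶ (EtFppf.a X).obj U₁)
    (m₂ : R ⟶ (EtFppf.a X).obj U₂) (t₁ : EtCoh.sect F U₁) (t₂ : EtCoh.sect F U₂)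
    (h : valG U₁ m₁ t₁ = valG U₂ m₂ t₂) : valH φ U₁ m₁ t₁ = valH φ U₂ m₂ t₂ := by
  have : Etale U₁.hom := U₁.prop
  have : Etale U₂.hom := U₂.prop
  let U : X.Etale := Scheme.Etale.mk (pullback.fst U₁.hom U₂.hom ≫ U₁.hom)
  let p₁ : U ⟶ U₁ := MorphismProperty.Over.homMk (pullback.fst U₁.hom U₂.hom) rfl
  let p₂ : U ⟶ U₂ := MorphismProperty.Over.homMk (pullback.snd U₁.hom U₂.hom) pullback.condition.symm
  let m : R ⟶ (EtFppf.a X).obj U := Over.homMk (pullback.lift m₁.left m₂.left ((Over.w m₁).trans (Over.w m₂).symm))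
    ((Category.assoc _ _ _).symm.trans ((congrArg (· ≫ U₁.hom) (pullback.lift_fst _ _ _)).trans (Over.w m₁)))
  have h₁ : m ≫ (EtFppf.a X).map p₁ = m₁ := Over.OverMorphism.ext (pullback.lift_fst _ _ _)
  have h₂ : m ≫ (EtFppf.a X).map p₂ = m₂ := Over.OverMorphism.ext (pullback.lift_snd _ _ _)
  have hz := valH_eq_of_sub_eq_zero φ U m (F.obj.map p₁.op t₁) (F.obj.map p₂.op t₂)
    (by rw [SectEt.valG_sub, SectEt.valG_map, SectEt.valG_map, h₁, h₂, h, sub_self])
  rwa [valH_map, valH_map, h₁, h₂] at hz

/-- A value of the comparison morphism. -/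
def IsValue {T : Over X} (σ : GSect F T) (h : H.obj.obj (op T)) : Prop :=
  ∀ (R : Over X) (q : R ⟶ T) (U : X.Etale) (m : R ⟶ (EtFppf.a X).obj U) (t : EtCoh.sect F U),
    res q σ = valG U m t → H.obj.map q.op h = valH φ U m t

theorem existsUnique_isValue {T : Over X} (σ : GSect F T) : ∃! h, IsValue φ σ h := by
  choose R q U m t he hy hr using SectEt.exists_rep σ
  obtain ⟨h, hh⟩ := glue_of_etale H (fun y : ULift.{u + 1} T.left => R y.down) (fun y => q y.down)
    (fun y => he y.down) (fun y => ⟨⟨y⟩, hy y⟩) (fun y => valH φ (U y.down) (m y.down) (t y.down))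
    fun k l P gk gl hkl => by
      rw [map_valH, map_valH]
      refine valH_eq φ _ _ _ _ _ _ ?_
      rw [← SectEt.res_valG, ← SectEt.res_valG, ← hr, ← hr, ← res_comp, ← res_comp, hkl]
  refine ⟨h, fun R' q' U' m' t' h' => ?_, fun h' hh' => ?_⟩
  · refine ext_of_etale H (fun y : ULift.{u + 1} T.left => Over.mk (pullback.fst q'.left (q y.down).left ≫ R'.hom))
      (fun y => Over.homMk (pullback.fst q'.left (q y.down).left)) (fun y => ?_) (fun z => ?_) _ _ fun y => ?_
    · have := he y.down
      exact inferInstanceAs (Etale (pullback.fst q'.left (q y.down).left))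
    · obtain ⟨w, hw⟩ := hy (q'.left z)
      obtain ⟨c, hc, -⟩ := Scheme.Pullback.exists_preimage_pullback (f := q'.left)
        (g := (q (q'.left z)).left) z w hw.symm
      exact ⟨⟨q'.left z⟩, c, hc⟩
    · let p₁ : Over.mk (pullback.fst q'.left (q y.down).left ≫ R'.hom) ⟶ R' :=
        Over.homMk (pullback.fst q'.left (q y.down).left)
      let p₂ : Over.mk (pullback.fst q'.left (q y.down).left ≫ R'.hom) ⟶ R y.down :=
        Over.homMk (pullback.snd q'.left (q y.down).left) (by
          change pullback.snd q'.left (q y.down).left ≫ (R y.down).hom = _ ≫ R'.hom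
          rw [← Over.w (q y.down), ← Over.w q', ← Category.assoc, ← Category.assoc, pullback.condition])
      have hp : p₁ ≫ q' = p₂ ≫ q y.down := Over.OverMorphism.ext pullback.condition
      change H.obj.map p₁.op _ = H.obj.map p₁.op _
      rw [map_valH, ← ConcreteCategory.comp_apply, ← Functor.map_comp, ← op_comp, hp, op_comp,
        Functor.map_comp, ConcreteCategory.comp_apply, hh y, map_valH]
      refine valH_eq φ _ _ _ _ _ _ ?_
      rw [← SectEt.res_valG, ← SectEt.res_valG, ← h', ← hr, ← res_comp, ← res_comp, hp]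
  · exact ext_of_etale H (fun y : ULift.{u + 1} T.left => R y.down) (fun y => q y.down)
      (fun y => he y.down) (fun y => ⟨⟨y⟩, hy y⟩) _ _ fun y => (hh' _ _ _ _ _ (hr y.down)).trans (hh y).symm

/-- The comparison morphism at an object. -/
noncomputable def descFun (T : Over X) (σ : GSect F T) : H.obj.obj (op T) :=
  (existsUnique_isValue φ σ).choose

theorem isValue_descFun {T : Over X} (σ : GSect F T) : IsValue φ σ (descFun φ T σ) :=
  (existsUnique_isValue φ σ).choose_spec.1

theorem descFun_res {T' T : Over X} (p : T' ⟶ T) (σ : GSect F T) :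
    descFun φ T' (res p σ) = H.obj.map p.op (descFun φ T σ) := by
  refine ((existsUnique_isValue φ (res p σ)).choose_spec.2 _ fun R q U m t h => ?_).symm
  rw [← ConcreteCategory.comp_apply, ← Functor.map_comp, ← op_comp]
  exact isValue_descFun φ σ R (q ≫ p) U m t ((res_comp q p σ).trans h)

/-- The morphism out of the sheaf of sections. -/
noncomputable def descHom : (setsBig X).obj (sectSheafEt F) ⟶ H :=
  ⟨{  app := fun T => TypeCat.ofHom (descFun φ T.unop)
      naturality := fun {T T'} p => by
        ext σ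
        exact descFun_res φ p.unop σ }⟩

variable (F) in
/-- The unit. -/
noncomputable abbrev sectUnitSets : (setsOf X).obj F ⟶ (resSets X).obj ((setsBig X).obj (sectSheafEt F)) :=
  (setsOf X).map (sectUnit F)

theorem sectUnit_descHom : sectUnitSets F ≫ (resSets X).map (descHom φ) = φ := by
  refine Sheaf.hom_ext (NatTrans.ext (funext fun U => ?_))
  ext t
  change descFun φ ((EtFppf.a X).obj U.unop) ((sectUnit F).hom.app U t) = φ.hom.app U t
  have hv : (sectUnit F).hom.app U t = valG U.unop (𝟙 ((EtFppf.a X).obj U.unop)) t := (res_id _ _).symm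
  have h := isValue_descFun φ ((sectUnit F).hom.app U t) _ (𝟙 _) U.unop (𝟙 _) t ((res_id _ _).trans hv)
  unfold valH at h
  rw [op_id, CategoryTheory.Functor.map_id] at h
  exact h

theorem hom_ext {a b : (setsBig X).obj (sectSheafEt F) ⟶ H}
    (h : sectUnitSets F ≫ (resSets X).map a = sectUnitSets F ≫ (resSets X).map b) : a = b := by
  refine Sheaf.hom_ext (NatTrans.ext (funext fun T => ?_))
  ext σ
  choose R q U m t he hy hr using SectEt.exists_rep (F := F) (T := T.unop) σ
  refine ext_of_etale H (fun y : ULift.{u + 1} T.unop.left => R y.down) (fun y => q y.down)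
    (fun y => he y.down) (fun y => ⟨⟨y⟩, hy y⟩) _ _ fun y => ?_
  have key : ∀ c : (setsBig X).obj (sectSheafEt F) ⟶ H,
      H.obj.map (q y.down).op (c.hom.app T σ) = H.obj.map (m y.down).op
        ((sectUnitSets F ≫ (resSets X).map c).hom.app (op (U y.down)) (t y.down)) := fun c => by
    refine (congrArg (fun k => k σ) (c.hom.naturality (q y.down).op)).symm.trans ?_
    refine (congrArg (c.hom.app _) (hr y.down)).trans ?_
    exact congrArg (fun k => k ((sectUnit F).hom.app (op (U y.down)) (t y.down))) (c.hom.naturality (m y.down).op)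
  exact (key a).trans ((congrArg (fun k => H.obj.map (m y.down).op (k.hom.app (op (U y.down)) (t y.down))) h).trans
    (key b).symm)

variable (F) in
/-- The inverse image of an underlying sheaf of sets is the underlying sheaf of sections. -/
noncomputable def piSetsIso : (piSets X).obj ((setsOf X).obj F) ≅ (setsBig X).obj (sectSheafEt F) where
  hom := ((adjSets X).homEquiv _ _).symm (sectUnitSets F)
  inv := descHom ((adjSets X).unit.app ((setsOf X).obj F))
  hom_inv_id := by
    apply ((adjSets X).homEquiv _ _).injective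
    rw [Adjunction.homEquiv_naturality_right, Equiv.apply_symm_apply, sectUnit_descHom, Adjunction.homEquiv_id]
  inv_hom_id := by
    refine hom_ext ?_
    rw [Functor.map_comp, ← Category.assoc, sectUnit_descHom, ← Adjunction.homEquiv_unit, Equiv.apply_symm_apply,
      CategoryTheory.Functor.map_id, Category.comp_id]

theorem homEquiv_piSetsIso_hom :
    (adjSets X).homEquiv _ _ (piSetsIso F).hom = sectUnitSets F :=
  Equiv.apply_symm_apply _ _

end Groth.Agent.Desc19b.SiteRes.SectSets
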